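import Mathlib

/-!
Deforming `α ^ p = a` to `β ^ p - c β = a` for small `c`: valuation rings and residue fields are unchanged.
-/

set_option linter.all false

universe u v

open Polynomial IsLocalRing

namespace EtRamDeform

/-- Every element of a valuation ring over `B` is a ratio of integral elements with unit denominator. -/
lemma exists_unit_mul_integral {B M : Type u} [CommRing B] [Field M] [Algebra B M] (W : ValuationSubring M)
    (hC : ∀ y : M, IsIntegral B y → y ∈ W) (r : M) (hr : r ∈ W)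
    (P : M[X]) (hP : ∀ i, IsIntegral B (P.coeff i)) (hroot : P.eval r = 0) (hu : ∃ i, ¬ W.valuation (P.coeff i) < 1) :
    ∃ s : M, IsIntegral B s ∧ ¬ W.valuation s < 1 ∧ IsIntegral B (s * r) := by
  suffices H : ∀ (n : ℕ) (P : M[X]), P.natDegree ≤ n → (∀ i, IsIntegral B (P.coeff i)) → P.eval r = 0 →
      (∃ i, ¬ W.valuation (P.coeff i) < 1) → ∃ s : M, IsIntegral B s ∧ ¬ W.valuation s < 1 ∧ IsIntegral B (s * r) from
    H _ P le_rfl hP hroot hu
  intro n
  induction n with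
  | zero =>
    intro P hd hP hroot ⟨i, hi⟩
    exfalso
    rw [eq_C_of_natDegree_le_zero hd, eval_C] at hroot
    apply hi
    rw [eq_C_of_natDegree_le_zero hd, hroot, C_0, coeff_zero, map_zero]
    exact zero_lt_one
  | succ n ih =>
    intro P hd hP hroot hi
    set a := P.coeff (n + 1) with ha
    have hint : IsIntegral B (a * r) := by
      by_cases hdeg : P.natDegree = n + 1
      · have h1 : IsIntegral (integralClosure B M) (a * r) := by
          have hcoef : ∀ i, ∃ c : integralClosure B M, algebraMap (integralClosure B M) M c = P.coeff i := fun i => ⟨⟨_, hP i⟩, rfl⟩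
          choose c hc using hcoef
          let P' : (integralClosure B M)[X] := ∑ i ∈ Finset.range (n + 2), C (c i) * X ^ i
          have hmap : P'.map (algebraMap (integralClosure B M) M) = P := by
            conv_rhs => rw [P.as_sum_range_C_mul_X_pow, hdeg]
            simp only [P', Polynomial.map_sum, Polynomial.map_mul, map_C, Polynomial.map_pow, map_X, hc]
          have hdeg' : P'.natDegree = n + 1 := by
            rw [← natDegree_map_eq_of_injective (f := algebraMap (integralClosure B M) M) Subtype.val_injective, hmap, hdeg]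
          have hlead : algebraMap (integralClosure B M) M P'.leadingCoeff = a := by
            rw [leadingCoeff, hdeg', ← coeff_map, hmap]
          have h0 : aeval r P' = 0 := by rw [← aeval_map_algebraMap M r P', hmap, coe_aeval_eq_eval, hroot]
          have := isIntegral_leadingCoeff_smul P' r h0
          rwa [Algebra.smul_def, hlead] at this
        exact isIntegral_trans _ h1
      · rw [ha, coeff_eq_zero_of_natDegree_lt (by omega), zero_mul]; exact isIntegral_zero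
    by_cases hua : W.valuation a < 1
    swap
    · exact ⟨a, hP _, hua, hint⟩
    set Q := P - C a * X ^ (n + 1) + C (a * r) * X ^ n with hQ
    have hQc : ∀ i, Q.coeff i = P.coeff i - (if i = n + 1 then a else 0) + (if i = n then a * r else 0) := fun i => by
      rw [hQ, coeff_add, coeff_sub, coeff_C_mul_X_pow, coeff_C_mul_X_pow]
    refine ih Q ?_ (fun i => ?_) ?_ ?_
    · refine natDegree_le_iff_coeff_eq_zero.mpr fun i hi => ?_
      rw [hQc]
      rw [if_neg (by omega : ¬ i = n), add_zero]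
      by_cases h : i = n + 1
      · rw [if_pos h, h, ← ha, sub_self]
      · rw [if_neg h, sub_zero]; exact coeff_eq_zero_of_natDegree_lt (by omega)
    · rw [hQc]
      refine ((hP i).sub ?_).add ?_
      · split_ifs
        · exact hP _
        · exact isIntegral_zero
      · split_ifs
        · exact hint
        · exact isIntegral_zero
    · rw [hQ, eval_add, eval_sub, eval_mul, eval_mul, eval_C, eval_C, eval_pow, eval_pow, eval_X, hroot, pow_succ]
      ring
    · obtain ⟨i, hi⟩ := hi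
      refine ⟨i, fun hlt => hi ?_⟩
      have hine : i ≠ n + 1 := fun h => hi (h ▸ hua)
      rw [hQc, if_neg hine, sub_zero] at hlt
      by_cases hin : i = n
      · rw [if_pos hin] at hlt
        have h2 : W.valuation (a * r) < 1 := by
          rw [map_mul]
          exact lt_of_le_of_lt (mul_le_of_le_one_right zero_le ((W.valuation_le_one_iff r).mpr hr)) hua
        have h3 : P.coeff i = (P.coeff i + a * r) - a * r := by ring
        rw [h3]
        exact lt_of_le_of_lt (Valuation.map_sub _ _ _) (max_lt hlt h2)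
      · rwa [if_neg hin, add_zero] at hlt

variable {p : ℕ} [hp : Fact p.Prime] {E : Type u} [Field E]

/-- The data of a deformation. -/
structure Data (p : ℕ) (E : Type u) [Field E] where
  R : ValuationSubring E
  ρ : E
  hρ : ρ ∈ R
  hρnu : R.valuation ρ < 1
  hρ0 : ρ ≠ 0
  harch : ∀ x : E, ∃ k : ℕ, ρ ^ k * x ∈ R
  a : E
  ha : a ∈ R
  d : E
  hd : d ∈ R
  hd0 : d ≠ 0
  c : E
  hc : ∃ c' : E, c' ∈ R ∧ c = d ^ (p + 2) * ρ ^ 2 * c'

variable (D : Data p E)

noncomputable def poly₂ : E[X] := X ^ p - C D.a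

lemma monic_poly₂ : (poly₂ D).Monic := monic_X_pow_sub_C _ hp.out.ne_zero

/-- The linear map `Q(α) ↦ Q(β)`, `deg Q < p`. -/
noncomputable def phi {E₃ : Type v} [Field E₃] [Algebra E E₃] (β : E₃) (x : AdjoinRoot (poly₂ D)) : E₃ :=
  aeval β (AdjoinRoot.modByMonicHom (monic_poly₂ D) x)

variable {E₃ : Type v} [Field E₃] [Algebra E E₃] (β : E₃)

lemma phi_algebraMap (e : E) : phi D β (algebraMap E (AdjoinRoot (poly₂ D)) e) = algebraMap E E₃ e := by
  rw [phi, AdjoinRoot.algebraMap_eq, ← AdjoinRoot.mk_C, AdjoinRoot.modByMonicHom_mk, (modByMonic_eq_self_iff (monic_poly₂ D)).mpr, aeval_C]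
  rw [poly₂, degree_X_pow_sub_C hp.out.pos]
  exact lt_of_le_of_lt degree_C_le (by exact_mod_cast hp.out.pos)

lemma phi_smul (e : E) (x : AdjoinRoot (poly₂ D)) :
    phi D β (algebraMap E (AdjoinRoot (poly₂ D)) e * x) = algebraMap E E₃ e * phi D β x := by
  rw [phi, phi, ← Algebra.smul_def, map_smul, map_smul, Algebra.smul_def]

lemma phi_add (x y : AdjoinRoot (poly₂ D)) : phi D β (x + y) = phi D β x + phi D β y := by
  rw [phi, phi, phi, map_add, map_add]

variable [Fact (Irreducible (poly₂ D))] (V₂ : ValuationSubring (AdjoinRoot (poly₂ D))) (V₃ : ValuationSubring E₃)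

/-- The standing hypotheses. -/
structure Hyp : Prop where
  hV₂ : V₂.comap (algebraMap E (AdjoinRoot (poly₂ D))) = D.R
  hV₃ : V₃.comap (algebraMap E E₃) = D.R
  hbound : ∀ x ∈ V₂, ∀ i, D.d * (AdjoinRoot.modByMonicHom (monic_poly₂ D) x).coeff i ∈ D.R
  hβ : β ^ p - algebraMap E E₃ D.c * β = algebraMap E E₃ D.a
  hgen : ∀ z : E₃, ∃ q : E[X], aeval β q = z

variable {D β V₂ V₃}

lemma Hyp.mem₃ (H : Hyp D β V₂ V₃) {e : E} (he : e ∈ D.R) : algebraMap E E₃ e ∈ V₃ := by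
  rw [← ValuationSubring.mem_comap, H.hV₃]; exact he

lemma Hyp.mem₂ (H : Hyp D β V₂ V₃) {e : E} (he : e ∈ D.R) : algebraMap E (AdjoinRoot (poly₂ D)) e ∈ V₂ := by
  rw [← ValuationSubring.mem_comap, H.hV₂]; exact he

lemma integral_mem {F : Type*} [Field F] (V : ValuationSubring F) {x : F} (hx : IsIntegral V x) : x ∈ V := by
  obtain ⟨y, rfl⟩ := (IsIntegrallyClosed.isIntegral_iff (R := V) (K := F)).mp hx
  exact y.2

lemma Hyp.c_mem (H : Hyp D β V₂ V₃) : D.c ∈ D.R := by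
  obtain ⟨c', hc', h⟩ := D.hc
  rw [h]
  exact mul_mem (mul_mem (pow_mem D.hd _) (pow_mem D.hρ _)) hc'

lemma Hyp.beta_mem (H : Hyp D β V₂ V₃) : β ∈ V₃ := by
  refine integral_mem V₃ ⟨X ^ p + (-(C (⟨_, H.mem₃ H.c_mem⟩ : V₃) * X) - C (⟨_, H.mem₃ D.ha⟩ : V₃)), monic_X_pow_add ?_, ?_⟩
  · refine lt_of_le_of_lt (degree_sub_le _ _) (max_lt ?_ ?_)
    · rw [degree_neg]; exact lt_of_le_of_lt (degree_C_mul_X_le _) (by exact_mod_cast hp.out.one_lt)
    · exact lt_of_le_of_lt degree_C_le (by exact_mod_cast hp.out.pos)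
  · rw [eval₂_add, eval₂_sub, eval₂_neg, eval₂_mul, eval₂_pow, eval₂_X, eval₂_C, eval₂_C]
    show β ^ p + (-(algebraMap E E₃ D.c * β) - algebraMap E E₃ D.a) = 0
    linear_combination H.hβ

lemma Hyp.aeval_mem (H : Hyp D β V₂ V₃) {q : E[X]} (hq : ∀ i, q.coeff i ∈ D.R) : aeval β q ∈ V₃ := by
  rw [aeval_eq_sum_range]
  exact sum_mem fun i _ => by rw [Algebra.smul_def]; exact mul_mem (H.mem₃ (hq i)) (pow_mem H.beta_mem i)

lemma Hyp.mul_error (H : Hyp D β V₂ V₃) {x y : AdjoinRoot (poly₂ D)} (hx : x ∈ V₂) (hy : y ∈ V₂) :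
    ∃ z ∈ V₃, phi D β x * phi D β y - phi D β (x * y) = algebraMap E E₃ (D.d ^ p * D.ρ ^ 2) * z := by
  set Qx := AdjoinRoot.modByMonicHom (monic_poly₂ D) x with hQx
  set Qy := AdjoinRoot.modByMonicHom (monic_poly₂ D) y with hQy
  have lift : ∀ z ∈ V₂, ∃ T : D.R[X], T.map D.R.subtype = C D.d * AdjoinRoot.modByMonicHom (monic_poly₂ D) z := fun z hz => by
    have hl : (C D.d * AdjoinRoot.modByMonicHom (monic_poly₂ D) z) ∈ Polynomial.lifts D.R.subtype := by
      refine (lifts_iff_coeff_lifts _).mpr fun i => ?_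
      rw [coeff_C_mul]
      exact ⟨⟨_, H.hbound z hz i⟩, rfl⟩
    exact hl
  obtain ⟨Tx, hTx⟩ := lift x hx
  obtain ⟨Ty, hTy⟩ := lift y hy
  set G : D.R[X] := X ^ p - C (⟨D.a, D.ha⟩ : D.R) with hG
  have hGm : G.Monic := monic_X_pow_sub_C _ hp.out.ne_zero
  have hGmap : G.map D.R.subtype = poly₂ D := by simp [hG, poly₂]
  have hmk : ∀ z, AdjoinRoot.mk (poly₂ D) (AdjoinRoot.modByMonicHom (monic_poly₂ D) z) = z := fun z =>
    AdjoinRoot.mk_leftInverse (monic_poly₂ D) z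
  have hxy : AdjoinRoot.modByMonicHom (monic_poly₂ D) (x * y) = (Qx * Qy) %ₘ poly₂ D := by
    conv_lhs => rw [← hmk x, ← hmk y, ← map_mul]
    rw [AdjoinRoot.modByMonicHom_mk]
  have hdec := modByMonic_add_div (Qx * Qy) (poly₂ D)
  have hquot : C (D.d ^ 2) * ((Qx * Qy) /ₘ poly₂ D) = ((Tx * Ty) /ₘ G).map D.R.subtype := by
    rw [map_divByMonic _ hGm, hGmap, Polynomial.map_mul, hTx, hTy]
    refine ((div_modByMonic_unique (C (D.d ^ 2) * ((Qx * Qy) /ₘ poly₂ D)) (C (D.d ^ 2) * ((Qx * Qy) %ₘ poly₂ D)) (monic_poly₂ D)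
      ⟨?_, ?_⟩).1).symm
    · rw [pow_two, C_mul]
      linear_combination (C D.d * C D.d) * hdec
    · rw [degree_C_mul (pow_ne_zero _ D.hd0)]
      exact degree_modByMonic_lt _ (monic_poly₂ D)
  obtain ⟨c', hc', hc⟩ := D.hc
  refine ⟨algebraMap E E₃ c' * β * aeval β (((Tx * Ty) /ₘ G).map D.R.subtype),
    mul_mem (mul_mem (H.mem₃ hc') H.beta_mem) (H.aeval_mem fun i => by rw [coeff_map]; exact (((Tx * Ty) /ₘ G).coeff i).2), ?_⟩
  have hev := congrArg (aeval β) hdec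
  rw [map_add, map_mul, map_mul] at hev
  have hp2 : aeval β (poly₂ D) = algebraMap E E₃ D.c * β := by
    rw [poly₂, map_sub, map_pow, aeval_X, aeval_C]; linear_combination H.hβ
  rw [hp2] at hev
  rw [phi, phi, phi, hxy, ← hQx, ← hQy, ← hquot, map_mul (aeval β), aeval_C, ← hev, hc]
  simp only [map_mul, map_pow, pow_add]
  ring

lemma Hyp.frob_mem (H : Hyp D β V₂ V₃) [CharP E p] {x : AdjoinRoot (poly₂ D)} :
    ∃ e : E, algebraMap E (AdjoinRoot (poly₂ D)) e = x ^ p := by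
  obtain ⟨q, rfl⟩ := AdjoinRoot.mk_surjective x
  haveI : CharP (AdjoinRoot (poly₂ D)) p := charP_of_injective_algebraMap (algebraMap E _).injective p
  have hroot : AdjoinRoot.root (poly₂ D) ^ p = algebraMap E _ D.a := by
    have h := AdjoinRoot.eval₂_root (poly₂ D)
    rw [poly₂] at h
    simp only [eval₂_sub, eval₂_pow, eval₂_X, eval₂_C] at h
    exact sub_eq_zero.mp h
  refine ⟨(q.map (frobenius E p)).eval D.a, ?_⟩
  rw [← aeval_algebraMap_apply_eq_algebraMap_eval, ← hroot, aeval_def, eval₂_map, ← AdjoinRoot.aeval_eq, aeval_def,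
    ← frobenius_def, ← frobenius_def, hom_eval₂]
  exact eval₂_congr (RingHom.ext fun e => by simp [frobenius_def]) rfl rfl

lemma Hyp.phi_mem (H : Hyp D β V₂ V₃) [CharP E p] {x : AdjoinRoot (poly₂ D)} (hx : x ∈ V₂) : phi D β x ∈ V₃ := by
  have hdx : algebraMap E E₃ D.d * phi D β x ∈ V₃ := by
    rw [phi, ← aeval_C (R := E) β D.d, ← map_mul]
    exact H.aeval_mem fun i => by rw [coeff_C_mul]; exact H.hbound x hx i
  have key : ∀ j, 1 ≤ j → j ≤ p → ∃ z ∈ V₃, phi D β x ^ j - phi D β (x ^ j) = algebraMap E E₃ (D.d ^ (p + 1 - j) * D.ρ ^ 2) * z := by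
    intro j hj
    induction j, hj using Nat.le_induction with
    | base => intro _; exact ⟨0, zero_mem _, by rw [pow_one, pow_one, sub_self, mul_zero]⟩
    | succ j hj ih =>
      intro hjp
      obtain ⟨z, hz, hzeq⟩ := ih (by omega)
      obtain ⟨z', hz', hz'eq⟩ := H.mul_error (pow_mem hx j) hx
      refine ⟨z * (algebraMap E E₃ D.d * phi D β x) + algebraMap E E₃ (D.d ^ j) * z',
        add_mem (mul_mem hz hdx) (mul_mem (H.mem₃ (pow_mem D.hd _)) hz'), ?_⟩
      rw [pow_succ, pow_succ, show phi D β x ^ j * phi D β x - phi D β (x ^ j * x) =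
        (phi D β x ^ j - phi D β (x ^ j)) * phi D β x + (phi D β (x ^ j) * phi D β x - phi D β (x ^ j * x)) by ring, hzeq, hz'eq]
      have e1 : D.d ^ (p + 1 - j) = D.d ^ (p + 1 - (j + 1)) * D.d := by
        rw [← pow_succ]; congr 1; omega
      have e2 : D.d ^ p = D.d ^ (p + 1 - (j + 1)) * D.d ^ j := by
        rw [← pow_add]; congr 1; omega
      rw [e1, e2]
      simp only [map_mul, map_pow]
      ring
  obtain ⟨z, hz, hzeq⟩ := key p hp.out.one_lt.le le_rfl
  obtain ⟨e, he⟩ := H.frob_mem (x := x)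
  have heR : e ∈ D.R := by rw [← H.hV₂, ValuationSubring.mem_comap, he]; exact pow_mem hx p
  have hpow : phi D β x ^ p ∈ V₃ := by
    rw [show phi D β x ^ p = phi D β (x ^ p) + algebraMap E E₃ (D.d ^ (p + 1 - p) * D.ρ ^ 2) * z by linear_combination hzeq,
      ← he, phi_algebraMap]
    exact add_mem (H.mem₃ heR) (mul_mem (H.mem₃ (mul_mem (pow_mem D.hd _) (pow_mem D.hρ _))) hz)
  exact integral_mem V₃ (IsIntegral.of_pow hp.out.pos (isIntegral_algebraMap (x := (⟨_, hpow⟩ : V₃))))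

lemma Hyp.congr (H : Hyp D β V₂ V₃) [CharP E p] {x y : AdjoinRoot (poly₂ D)} (hx : x ∈ V₂) (hy : y ∈ V₂) :
    ∃ z ∈ V₃, phi D β x * phi D β y - phi D β (x * y) = algebraMap E E₃ D.ρ ^ 2 * z := by
  obtain ⟨z, hz, h⟩ := H.mul_error hx hy
  exact ⟨algebraMap E E₃ (D.d ^ p) * z, mul_mem (H.mem₃ (pow_mem D.hd _)) hz, by rw [h, map_mul, map_pow, map_pow]; ring⟩

variable [CharP E p] (H : Hyp D β V₂ V₃)

lemma Hyp.rho_mem_max (H : Hyp D β V₂ V₃) : (⟨_, H.mem₃ D.hρ⟩ : V₃) ∈ maximalIdeal V₃ := by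
  intro hu
  have key : ∀ (hρ' : D.ρ ∈ V₃.comap (algebraMap E E₃)), IsUnit (⟨D.ρ, hρ'⟩ : V₃.comap (algebraMap E E₃)) := by
    intro _
    obtain ⟨⟨i, hi⟩, hi'⟩ := isUnit_iff_exists_inv.mp hu
    have h1 : algebraMap E E₃ D.ρ * i = 1 := congrArg Subtype.val hi'
    have h2 : i = algebraMap E E₃ D.ρ⁻¹ := by rw [map_inv₀]; exact eq_inv_of_mul_eq_one_right h1
    exact IsUnit.of_mul_eq_one (⟨D.ρ⁻¹, show algebraMap E E₃ D.ρ⁻¹ ∈ V₃ from h2 ▸ hi⟩ : V₃.comap (algebraMap E E₃))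
      (Subtype.ext (mul_inv_cancel₀ D.hρ0))
  have hcomap := H.hV₃
  have : D.R.valuation D.ρ = 1 := by
    subst_eqs
    have hm : D.ρ ∈ V₃.comap (algebraMap E E₃) := H.mem₃ D.hρ
    have hinv : D.ρ⁻¹ ∈ V₃.comap (algebraMap E E₃) := by
      obtain ⟨⟨i, hi⟩, hi'⟩ := isUnit_iff_exists_inv.mp (key hm)
      have : i = D.ρ⁻¹ := eq_inv_of_mul_eq_one_right (congrArg Subtype.val hi')
      exact this ▸ hi
    rw [hcomap] at hinv
    refine le_antisymm ((D.R.valuation_le_one_iff _).mpr D.hρ) ?_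
    have h1 := (D.R.valuation_le_one_iff _).mpr hinv
    rw [map_inv₀] at h1
    exact (inv_le_one₀ (lt_of_le_of_ne zero_le (Ne.symm ((Valuation.ne_zero_iff _).mpr D.hρ0)))).mp h1
  exact D.hρnu.ne this

/-- The residue map `V₂ → k₃`. -/
noncomputable def Hyp.resMap : V₂ →+* ResidueField V₃ where
  toFun x := residue V₃ ⟨_, H.phi_mem x.2⟩
  map_one' := by
    rw [← map_one (residue V₃)]
    refine congrArg (residue V₃) (Subtype.ext ?_)
    show phi D β ((1 : AdjoinRoot (poly₂ D))) = 1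
    rw [← map_one (algebraMap E (AdjoinRoot (poly₂ D))), phi_algebraMap, map_one]
  map_mul' x y := by
    rw [← map_mul]
    refine Ideal.Quotient.eq.mpr ?_
    obtain ⟨z, hz, h⟩ := H.congr x.2 y.2
    have : (⟨_, H.phi_mem (x * y).2⟩ - ⟨_, H.phi_mem x.2⟩ * ⟨_, H.phi_mem y.2⟩ : V₃) =
        -((⟨_, H.mem₃ D.hρ⟩ : V₃) ^ 2 * ⟨z, hz⟩) := Subtype.ext (by
      show phi D β ((x : AdjoinRoot (poly₂ D)) * y) - phi D β x * phi D β y = -(algebraMap E E₃ D.ρ ^ 2 * z)
      linear_combination -h)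
    rw [this]
    exact neg_mem (Ideal.mul_mem_right _ _ (Ideal.pow_mem_of_mem _ H.rho_mem_max 2 (by norm_num)))
  map_zero' := by
    rw [← map_zero (residue V₃)]
    refine congrArg (residue V₃) (Subtype.ext ?_)
    show phi D β ((0 : AdjoinRoot (poly₂ D))) = 0
    rw [← map_zero (algebraMap E (AdjoinRoot (poly₂ D))), phi_algebraMap, map_zero]
  map_add' x y := by
    rw [← map_add]
    exact congrArg (residue V₃) (Subtype.ext (phi_add D β _ _))

lemma Hyp.resMap_eq_zero (H : Hyp D β V₂ V₃) {x : V₂} (hx : x ∈ maximalIdeal V₂) : H.resMap x = 0 := by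
  obtain ⟨e, he⟩ := H.frob_mem (x := (x : AdjoinRoot (poly₂ D)))
  have heR : e ∈ D.R := by rw [← H.hV₂, ValuationSubring.mem_comap, he]; exact pow_mem x.2 p
  have h1 : H.resMap x ^ p = residue V₃ ⟨_, H.mem₃ heR⟩ := by
    rw [← map_pow]
    refine congrArg (residue V₃) (Subtype.ext ?_)
    show phi D β (((x ^ p : V₂) : AdjoinRoot (poly₂ D))) = _
    rw [SubmonoidClass.coe_pow, ← he, phi_algebraMap]
  refine (pow_eq_zero_iff hp.out.ne_zero).mp (h1.trans ((residue_eq_zero_iff _).mpr fun hu => ?_))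
  obtain ⟨⟨i, hi⟩, hi'⟩ := isUnit_iff_exists_inv.mp hu
  have h2 : algebraMap E E₃ e * i = 1 := congrArg Subtype.val hi'
  have he0 : e ≠ 0 := fun h => by rw [h, map_zero, zero_mul] at h2; exact zero_ne_one h2
  have h3 : i = algebraMap E E₃ e⁻¹ := by rw [map_inv₀]; exact eq_inv_of_mul_eq_one_right h2
  have heinv : e⁻¹ ∈ D.R := by rw [← H.hV₃]; exact (h3 ▸ hi : algebraMap E E₃ e⁻¹ ∈ V₃)
  have hxp : IsUnit (x ^ p) := IsUnit.of_mul_eq_one (⟨_, H.mem₂ heinv⟩ : V₂) (Subtype.ext (by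
    show ((x ^ p : V₂) : AdjoinRoot (poly₂ D)) * _ = 1
    rw [SubmonoidClass.coe_pow, ← he, ← map_mul, mul_inv_cancel₀ he0, map_one]))
  exact hx ((isUnit_pow_iff hp.out.ne_zero).mp hxp)

lemma Hyp.exists_preimage (H : Hyp D β V₂ V₃) {z : E₃} (hz : z ∈ V₃) : ∃ x ∈ V₂, phi D β x = z := by
  classical
  obtain ⟨q, hq⟩ := H.hgen z
  set G₃ : E[X] := X ^ p + (-(C D.c * X) - C D.a) with hG₃
  have hdeg₃ : (-(C D.c * X) - C D.a : E[X]).degree < (p : WithBot ℕ) := by
    refine lt_of_le_of_lt (degree_sub_le _ _) (max_lt ?_ ?_)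
    · rw [degree_neg]; exact lt_of_le_of_lt (degree_C_mul_X_le _) (by exact_mod_cast hp.out.one_lt)
    · exact lt_of_le_of_lt degree_C_le (by exact_mod_cast hp.out.pos)
  have hm₃ : G₃.Monic := monic_X_pow_add hdeg₃
  let q' := q %ₘ G₃
  have hq' : aeval β q' = z := by
    rw [← hq]
    conv_rhs => rw [← modByMonic_add_div q G₃]
    rw [map_add, map_mul, show aeval β G₃ = 0 by
      rw [hG₃, map_add, map_sub, map_neg, map_mul, map_pow, aeval_X, aeval_C, aeval_C]; linear_combination H.hβ,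
      zero_mul, add_zero]
  set x := AdjoinRoot.mk (poly₂ D) q' with hx
  have hphix : phi D β x = z := by
    rw [phi, hx, AdjoinRoot.modByMonicHom_mk, (modByMonic_eq_self_iff (monic_poly₂ D)).mpr, hq']
    rw [poly₂, degree_X_pow_sub_C hp.out.pos]
    refine lt_of_lt_of_eq (degree_modByMonic_lt q hm₃) ?_
    rw [hG₃, degree_add_eq_left_of_degree_lt (by rwa [degree_X_pow]), degree_X_pow]
  refine ⟨x, ?_, hphix⟩
  by_contra hxV
  have hex : ∃ k : ℕ, algebraMap E (AdjoinRoot (poly₂ D)) (D.ρ ^ k) * x ∈ V₂ := by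
    obtain ⟨e, he⟩ := H.frob_mem (x := x)
    obtain ⟨k, hk⟩ := D.harch e
    refine ⟨k, integral_mem V₂ (IsIntegral.of_pow hp.out.pos (isIntegral_algebraMap (R := V₂) (A := AdjoinRoot (poly₂ D)) (x := ⟨_, ?_⟩)))⟩
    show (_ * x) ^ p ∈ V₂
    rw [mul_pow, ← he, ← map_pow, ← map_mul]
    refine H.mem₂ ?_
    rw [← pow_mul, show D.ρ ^ (k * p) * e = D.ρ ^ (k * (p - 1)) * (D.ρ ^ k * e) by
      rw [← mul_assoc, ← pow_add]; congr 2
      obtain ⟨q, hq⟩ := Nat.exists_eq_succ_of_ne_zero hp.out.ne_zero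
      rw [hq, Nat.succ_sub_one, Nat.mul_succ]]
    exact mul_mem (pow_mem D.hρ _) hk
  set k := Nat.find hex with hk
  have hk0 : k ≠ 0 := fun h0 => hxV (by
    have := Nat.find_spec hex
    rwa [← hk, h0, pow_zero, map_one, one_mul] at this)
  obtain ⟨j, hj⟩ := Nat.exists_eq_succ_of_ne_zero hk0
  set y := algebraMap E (AdjoinRoot (poly₂ D)) (D.ρ ^ j) * x with hy
  have hyV : y ∉ V₂ := Nat.find_min hex (by omega)
  set x' := algebraMap E (AdjoinRoot (poly₂ D)) D.ρ * y with hx'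
  have hx'V : x' ∈ V₂ := by
    have := Nat.find_spec hex
    rw [← hk, hj, pow_succ', map_mul, mul_assoc] at this
    exact this
  have hyinv : y⁻¹ ∈ V₂ := (V₂.mem_or_inv_mem y).resolve_left hyV
  have hy0 : y ≠ 0 := fun h => hyV (h ▸ zero_mem _)
  have hmax : (⟨y⁻¹, hyinv⟩ : V₂) ∈ maximalIdeal V₂ := fun hu => hyV (by
    obtain ⟨⟨i, hi⟩, hi'⟩ := isUnit_iff_exists_inv.mp hu
    have : i = y := by rw [← inv_inv y]; exact eq_inv_of_mul_eq_one_right (congrArg Subtype.val hi')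
    exact this ▸ hi)
  have hres : (⟨_, H.phi_mem hyinv⟩ : V₃) ∈ maximalIdeal V₃ := (residue_eq_zero_iff _).mp (H.resMap_eq_zero hmax)
  obtain ⟨w, hw, hweq⟩ := H.congr hx'V hyinv
  rw [hx', mul_assoc, mul_inv_cancel₀ hy0, mul_one, phi_algebraMap, phi_smul, hy, phi_smul, hphix, map_pow] at hweq
  have hρ0 : algebraMap E E₃ D.ρ ≠ 0 := (_root_.map_ne_zero _).mpr D.hρ0
  have h1 : (algebraMap E E₃ D.ρ ^ j * z) * phi D β y⁻¹ - algebraMap E E₃ D.ρ * w = 1 := by
    refine mul_left_cancel₀ hρ0 ?_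
    linear_combination hweq
  have h2 : (1 : V₃) ∈ maximalIdeal V₃ := by
    have e : (1 : V₃) = ((⟨_, H.mem₃ D.hρ⟩ : V₃) ^ j * ⟨z, hz⟩) * ⟨_, H.phi_mem hyinv⟩ - ⟨_, H.mem₃ D.hρ⟩ * ⟨w, hw⟩ :=
      Subtype.ext h1.symm
    rw [e]
    exact sub_mem (Ideal.mul_mem_left _ _ hres) (Ideal.mul_mem_right _ _ H.rho_mem_max)
  exact h2 isUnit_one

lemma Hyp.maximalIdeal_eq (H : Hyp D β V₂ V₃) (t : V₂) (ht : maximalIdeal V₂ = Ideal.span {t}) :
    maximalIdeal V₃ = Ideal.span {(⟨_, H.phi_mem t.2⟩ : V₃)} := by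
  set T : V₃ := ⟨_, H.phi_mem t.2⟩
  set P : V₃ := ⟨_, H.mem₃ D.hρ⟩
  have hPu : ∀ z : V₃, IsUnit (1 + P * z) := fun z => by
    by_contra h
    have := sub_mem (show (1 + P * z) ∈ maximalIdeal V₃ from h) (Ideal.mul_mem_right z _ H.rho_mem_max)
    rw [add_sub_cancel_right] at this
    exact this isUnit_one
  have hρ₂ : (⟨_, H.mem₂ D.hρ⟩ : V₂) ∈ maximalIdeal V₂ := fun hu => by
    have h1 := hu.map H.resMap
    have h2 : H.resMap (⟨_, H.mem₂ D.hρ⟩ : V₂) = residue V₃ P := congrArg (residue V₃) (Subtype.ext (phi_algebraMap D β D.ρ))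
    rw [h2, (residue_eq_zero_iff _).mpr H.rho_mem_max] at h1
    exact not_isUnit_zero h1
  have hmul : ∀ y : V₂, ∃ z : V₃, (⟨_, H.phi_mem (t * y).2⟩ : V₃) = T * ⟨_, H.phi_mem y.2⟩ - P ^ 2 * z := fun y => by
    obtain ⟨z, hz, h⟩ := H.congr t.2 y.2
    refine ⟨⟨z, hz⟩, Subtype.ext ?_⟩
    show phi D β ((t : AdjoinRoot (poly₂ D)) * y) = phi D β t * phi D β y - algebraMap E E₃ D.ρ ^ 2 * z
    linear_combination -h
  have hPT : T ∣ P := by
    obtain ⟨w, hw⟩ := Ideal.mem_span_singleton.mp (ht ▸ hρ₂)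
    obtain ⟨z, hz⟩ := hmul w
    have h1 : (⟨_, H.phi_mem (t * w).2⟩ : V₃) = P := Subtype.ext (by
      show phi D β ((t * w : V₂) : AdjoinRoot (poly₂ D)) = _
      rw [← hw, phi_algebraMap])
    rw [h1] at hz
    exact ((hPu z).dvd_mul_right).mp ⟨⟨_, H.phi_mem w.2⟩, by linear_combination hz⟩
  refine le_antisymm (fun z hz => Ideal.mem_span_singleton.mpr ?_) ((Ideal.span_singleton_le_iff_mem _).mpr
    ((residue_eq_zero_iff T).mp (H.resMap_eq_zero (ht ▸ Ideal.mem_span_singleton_self t))))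
  obtain ⟨x, hx, hxz⟩ := H.exists_preimage z.2
  have hxm : (⟨x, hx⟩ : V₂) ∈ maximalIdeal V₂ := fun hu => by
    have h1 := hu.map H.resMap
    have h2 : H.resMap (⟨x, hx⟩ : V₂) = residue V₃ z := congrArg (residue V₃) (Subtype.ext hxz)
    rw [h2, (residue_eq_zero_iff _).mpr hz] at h1
    exact not_isUnit_zero h1
  obtain ⟨w, hw⟩ := Ideal.mem_span_singleton.mp (ht ▸ hxm)
  obtain ⟨y, hy⟩ := hmul w
  have h1 : (⟨_, H.phi_mem (t * w).2⟩ : V₃) = z := Subtype.ext (by
    show phi D β ((t * w : V₂) : AdjoinRoot (poly₂ D)) = _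
    rw [← hw]; exact hxz)
  rw [← h1, hy]
  exact dvd_sub (dvd_mul_right _ _) ((hPT.trans (dvd_pow_self P two_ne_zero)).mul_right _)

/-- The isomorphism of residue fields. -/
noncomputable def Hyp.resEquiv : ResidueField V₂ ≃+* ResidueField V₃ := by
  refine RingEquiv.ofBijective (Ideal.Quotient.lift (maximalIdeal V₂) H.resMap fun x hx => H.resMap_eq_zero hx) ⟨?_, ?_⟩
  · exact RingHom.injective _
  · intro r
    obtain ⟨z, rfl⟩ := residue_surjective r
    obtain ⟨x, hx, hxz⟩ := H.exists_preimage z.2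
    exact ⟨residue V₂ ⟨x, hx⟩, congrArg (residue V₃) (Subtype.ext hxz)⟩

lemma Hyp.resEquiv_residue (x : V₂) : H.resEquiv (residue V₂ x) = residue V₃ ⟨_, H.phi_mem x.2⟩ := rfl

end EtRamDeform
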