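import Mathlib
import Groth.Prelude.Def_EtRam
import Groth.Agent.EtRamBC.ResField
import Groth.Agent.EtRamDeform.Basic
import Groth.Agent.S1983

/-!
One factor of `L ⊗_K K₁`: the deformed extension is a solution when the purely inseparable one is.
-/

set_option linter.all false
set_option maxHeartbeats 1000000

universe u

open Polynomial IsLocalRing

namespace EtRamDeform

lemma valuation_lt_one_iff_inv {F : Type*} [Field F] (W : ValuationSubring F) (x : F) :
    W.valuation x < 1 ↔ x = 0 ∨ x⁻¹ ∉ W := by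
  rcases eq_or_ne x 0 with rfl | hx
  · simp
  · have hpos : 0 < W.valuation x := zero_lt_iff.mpr ((Valuation.ne_zero_iff _).mpr hx)
    rw [← W.valuation_le_one_iff, map_inv₀, inv_le_one₀ hpos, not_le]
    simp [hx]

lemma valuation_comap_lt_one {F G : Type*} [Field F] [Field G] (f : F →+* G) (W : ValuationSubring G) (x : F) :
    (W.comap f).valuation x < 1 ↔ W.valuation (f x) < 1 := by
  rw [valuation_lt_one_iff_inv, valuation_lt_one_iff_inv, ValuationSubring.mem_comap, map_inv₀, map_eq_zero]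

open TensorProduct in
/-- Geometric reducedness is invariant under isomorphisms of both fields. -/
lemma geomRed_transfer {k A E Q : Type u} [Field k] [Field A] [Field E] [Field Q] (f : k →+* A) (g : E →+* Q)
    (i : k ≃+* E) (j : A ≃+* Q) (h : ∀ x, g (i x) = j (f x))
    (hGR : @Algebra.IsGeometricallyReduced k A _ _ f.toAlgebra) : @Algebra.IsGeometricallyReduced E Q _ _ g.toAlgebra := by
  letI : Algebra k A := f.toAlgebra
  letI : Algebra E Q := g.toAlgebra
  letI : Algebra k E := i.toRingHom.toAlgebra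
  letI : Algebra k Q := (g.comp i.toRingHom).toAlgebra
  haveI : IsScalarTower k E Q := IsScalarTower.of_algebraMap_eq fun _ => rfl
  haveI : Module.Finite k E := Module.Finite.of_surjective (Algebra.linearMap k E) i.surjective
  let jA : A →ₐ[k] Q := { j.toRingHom with commutes' := fun r => (h r).symm }
  refine Groth.Agent.S1983.isGeometricallyReduced_quotient k E A Q
    (Algebra.TensorProduct.lift (Algebra.ofId E Q) jA fun _ _ => .all _ _) fun q => ⟨1 ⊗ₜ[k] j.symm q, ?_⟩
  rw [Algebra.TensorProduct.lift_tmul, map_one, one_mul]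
  exact j.apply_symm_apply q

lemma natDegree_X_pow_sub (p : ℕ) (E : Type*) [Field E] (e : E) : (X ^ p - C e : E[X]).natDegree = p :=
  natDegree_X_pow_sub_C

/-- `E(α) → F(α)`. -/
noncomputable def rootMap {E F : Type u} [Field E] [Field F] [Algebra E F] (p : ℕ) (a : E) :
    AdjoinRoot (X ^ p - C a) →+* AdjoinRoot (X ^ p - C (algebraMap E F a)) :=
  AdjoinRoot.map (algebraMap E F) _ _ (dvd_of_eq (by simp))

lemma rootMap_mk {E F : Type u} [Field E] [Field F] [Algebra E F] (p : ℕ) (a : E) (q : E[X]) :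
    rootMap (F := F) p a (AdjoinRoot.mk _ q) = AdjoinRoot.mk _ (q.map (algebraMap E F)) := by
  rw [rootMap, AdjoinRoot.map, AdjoinRoot.lift_mk, ← eval₂_map, ← AdjoinRoot.algebraMap_eq, ← aeval_def, AdjoinRoot.aeval_eq]

lemma rootMap_of {E F : Type u} [Field E] [Field F] [Algebra E F] (p : ℕ) (a : E) (e : E) :
    rootMap (F := F) p a (algebraMap E _ e) = algebraMap F _ (algebraMap E F e) := by
  rw [AdjoinRoot.algebraMap_eq, ← AdjoinRoot.mk_C, rootMap_mk, Polynomial.map_C, AdjoinRoot.mk_C, AdjoinRoot.algebraMap_eq]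

lemma modByMonicHom_rootMap {E F : Type u} [Field E] [Field F] [Algebra E F] {p : ℕ} (hp : p ≠ 0) (a : E)
    (x : AdjoinRoot (X ^ p - C a)) :
    AdjoinRoot.modByMonicHom (monic_X_pow_sub_C (algebraMap E F a) hp) (rootMap p a x) =
      (AdjoinRoot.modByMonicHom (monic_X_pow_sub_C a hp) x).map (algebraMap E F) := by
  obtain ⟨q, rfl⟩ := AdjoinRoot.mk_surjective x
  rw [rootMap_mk, AdjoinRoot.modByMonicHom_mk, AdjoinRoot.modByMonicHom_mk, Polynomial.map_modByMonic _ (monic_X_pow_sub_C a hp)]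
  simp

variable {p : ℕ} [hp : Fact p.Prime]

/-- `x ↦ x ^ p`, as a map `F(α) → F`. -/
noncomputable def frobDown {F : Type u} [Field F] [CharP F p] (a : F) : AdjoinRoot (X ^ p - C a) →+* F :=
  AdjoinRoot.lift (frobenius F p) a (by simp [frobenius_def])

lemma frobDown_of {F : Type u} [Field F] [CharP F p] (a e : F) : frobDown (p := p) a (algebraMap F _ e) = e ^ p := by
  simp [frobDown, AdjoinRoot.algebraMap_eq, frobenius_def]

lemma comap_frobDown {F : Type u} [Field F] [CharP F p] (a : F) [Fact (Irreducible (X ^ p - C a))] (W : ValuationSubring F) :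
    (W.comap (frobDown (p := p) a)).comap (algebraMap F (AdjoinRoot (X ^ p - C a))) = W := by
  ext e
  rw [ValuationSubring.mem_comap, ValuationSubring.mem_comap, frobDown_of, ← W.valuation_le_one_iff, map_pow,
    pow_le_one_iff hp.out.ne_zero, W.valuation_le_one_iff]

lemma algebraMap_frobDown {F : Type u} [Field F] [CharP F p] (a : F) [Fact (Irreducible (X ^ p - C a))]
    (x : AdjoinRoot (X ^ p - C a)) : algebraMap F (AdjoinRoot (X ^ p - C a)) (frobDown (p := p) a x) = x ^ p := by
  haveI : CharP (AdjoinRoot (X ^ p - C a)) p := charP_of_injective_algebraMap (algebraMap F _).injective p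
  have : (algebraMap F (AdjoinRoot (X ^ p - C a))).comp (frobDown (p := p) a) = frobenius _ p := by
    refine AdjoinRoot.ringHom_ext ?_ ?_
    · refine RingHom.ext fun e => ?_
      rw [RingHom.comp_apply, RingHom.comp_apply, RingHom.comp_apply, ← AdjoinRoot.algebraMap_eq, frobDown_of, map_pow, frobenius_def]
    · rw [RingHom.comp_apply, frobDown, AdjoinRoot.lift_root, frobenius_def]
      have h := AdjoinRoot.eval₂_root (X ^ p - C a)
      simp only [eval₂_sub, eval₂_pow, eval₂_X, eval₂_C] at h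
      rw [AdjoinRoot.algebraMap_eq]
      exact (sub_eq_zero.mp h).symm
  exact RingHom.congr_fun this x

/-- The bound on coefficients of integral elements of `F(α)`. -/
def Bound (p : ℕ) [Fact p.Prime] (B : Type u) [CommRing B] (F : Type u) [Field F] [Algebra B F] (a : F) (d : F) : Prop :=
  ∀ x : AdjoinRoot (X ^ p - C a), IsIntegral B x →
    ∀ i, IsIntegral B (d * (AdjoinRoot.modByMonicHom (monic_X_pow_sub_C a (Fact.out : p.Prime).ne_zero) x).coeff i)

lemma coeff_bound {B F : Type u} [CommRing B] [IsDomain B] [IsDiscreteValuationRing B] [Field F] [CharP F p] [Algebra B F]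
    (hinj : Function.Injective (algebraMap B F)) (halg : Algebra.IsAlgebraic B F) (a d : F) (hd : Bound p B F a d)
    [Fact (Irreducible (X ^ p - C a))] (W : ValuationSubring F)
    (hW : EtRam.Dominates B (algebraMap B F) W)
    {x : AdjoinRoot (X ^ p - C a)} (hx : x ∈ W.comap (frobDown (p := p) a)) (i : ℕ) :
    d * (AdjoinRoot.modByMonicHom (monic_X_pow_sub_C a (Fact.out : p.Prime).ne_zero) x).coeff i ∈ W := by
  classical
  have hint : ∀ y : F, IsIntegral B y → y ∈ W := fun y hy => by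
    obtain ⟨P, hm, h⟩ := hy
    refine integral_mem W ⟨P.map (RingHom.codRestrict (algebraMap B F) W hW.1), hm.map _, ?_⟩
    rw [eval₂_map]
    exact h
  obtain ⟨P, hP0, hPr⟩ := halg.isAlgebraic (frobDown (p := p) a x)
  obtain ⟨i₀, hi₀, hdiv⟩ : ∃ i₀ ∈ P.support, ∀ j ∈ P.support, P.coeff i₀ ∣ P.coeff j := by
    have key : ∀ s : Finset ℕ, s.Nonempty → ∃ i₀ ∈ s, ∀ j ∈ s, P.coeff i₀ ∣ P.coeff j := fun s hs => by
      induction hs using Finset.Nonempty.cons_induction with
      | singleton b => exact ⟨b, Finset.mem_singleton_self _, fun j hj => by rw [Finset.mem_singleton.mp hj]⟩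
      | cons b s hb hs ih =>
        obtain ⟨i₀, hi₀, hdiv⟩ := ih
        rcases ValuationRing.dvd_total (P.coeff b) (P.coeff i₀) with h | h
        · refine ⟨b, Finset.mem_cons_self _ _, fun j hj => ?_⟩
          rcases Finset.mem_cons.mp hj with rfl | hj
          · exact dvd_rfl
          · exact h.trans (hdiv j hj)
        · refine ⟨i₀, Finset.mem_cons.mpr (Or.inr hi₀), fun j hj => ?_⟩
          rcases Finset.mem_cons.mp hj with rfl | hj
          · exact h
          · exact hdiv j hj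
    exact key _ (Polynomial.support_nonempty.mpr hP0)
  have hne : algebraMap B F (P.coeff i₀) ≠ 0 := (map_ne_zero_iff _ hinj).mpr (mem_support_iff.mp hi₀)
  set Q : F[X] := C (algebraMap B F (P.coeff i₀))⁻¹ * P.map (algebraMap B F) with hQ
  have hQc : ∀ j, IsIntegral B (Q.coeff j) := fun j => by
    rw [hQ, coeff_C_mul, coeff_map]
    by_cases hj : j ∈ P.support
    · obtain ⟨b, hb⟩ := hdiv j hj
      rw [hb, map_mul, inv_mul_cancel_left₀ hne]
      exact isIntegral_algebraMap
    · rw [notMem_support_iff.mp hj, map_zero, mul_zero]; exact isIntegral_zero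
  obtain ⟨u, hu, huW, hux⟩ := exists_unit_mul_integral (B := B) W hint (frobDown (p := p) a x) hx Q hQc
    (by rw [hQ, eval_mul, eval_map, ← aeval_def, hPr, mul_zero])
    ⟨i₀, by rw [hQ, coeff_C_mul, coeff_map, inv_mul_cancel₀ hne, map_one]; exact lt_irrefl _⟩
  set z := algebraMap F (AdjoinRoot (X ^ p - C a)) u * x with hz
  have hzint : IsIntegral B z := by
    refine IsIntegral.of_pow hp.out.pos ?_
    rw [hz, mul_pow, ← algebraMap_frobDown a x, ← map_pow, ← map_mul]
    refine IsIntegral.algebraMap ?_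
    rw [show u ^ p * frobDown (p := p) a x = u ^ (p - 1) * (u * frobDown (p := p) a x) by
      rw [← mul_assoc, ← pow_succ, Nat.sub_add_cancel hp.out.one_lt.le]]
    exact (hu.pow _).mul hux
  have h := hint _ (hd z hzint i)
  have hu0 : u ≠ 0 := fun h => huW (by rw [h, map_zero]; exact zero_lt_one)
  rw [hz, ← Algebra.smul_def, map_smul, coeff_smul, smul_eq_mul, mul_left_comm] at h
  have huinv : u⁻¹ ∈ W := by
    by_contra hc
    exact huW ((valuation_lt_one_iff_inv W u).mpr (Or.inr hc))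
  simpa [inv_mul_cancel_left₀ hu0] using mul_mem huinv h

theorem factor_solution (A B K L K₁ K₂ M₁ K₃ N : Type u)
    [CommRing A] [IsDomain A] [IsDiscreteValuationRing A] [CommRing B] [IsDomain B] [IsDiscreteValuationRing B]
    [Algebra A B] [IsLocalHom (algebraMap A B)]
    [Field K] [Field L] [Algebra A K] [IsFractionRing A K] [Algebra B L] [IsFractionRing B L]
    [Algebra K L] [Algebra A L] [IsScalarTower A K L] [IsScalarTower A B L]
    [Field K₁] [Field K₂] [Algebra K K₁] [Algebra K K₂] [Algebra K₁ K₂] [IsScalarTower K K₁ K₂] [FiniteDimensional K K₂]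
    [CharP K₁ p]
    [Field M₁] [Algebra K M₁] [Algebra L M₁] [Algebra K₁ M₁] [IsScalarTower K L M₁] [IsScalarTower K K₁ M₁]
    [Algebra B M₁] [IsScalarTower B L M₁] [Algebra.IsAlgebraic L M₁]
    (hgenM : Algebra.adjoin L (Set.range (algebraMap K₁ M₁)) = ⊤)
    (π : A) (hπ : π ∈ maximalIdeal A) (hπ0 : π ≠ 0) (s : ℕ) (a : K₁) (haB : IsIntegral B (algebraMap K₁ M₁ a))
    (harch : ∀ x : M₁, ∃ k, IsIntegral B (algebraMap B M₁ (algebraMap A B π) ^ k * x))
    (hM : ∀ b : M₁, b ^ p ≠ algebraMap K₁ M₁ a)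
    (hbd : Bound p B M₁ (algebraMap K₁ M₁ a) (algebraMap B M₁ (algebraMap A B π) ^ s))
    (e : AdjoinRoot (X ^ p - C a) ≃ₐ[K₁] K₂) (hsol : EtRam.IsSolution B K L K₂)
    [Field K₃] [Algebra K K₃] [Algebra K₁ K₃] [IsScalarTower K K₁ K₃] (β : K₃)
    (hβ : β ^ p - algebraMap K₁ K₃ (algebraMap K K₁ (algebraMap A K π) ^ (s * (p + 2) + 2)) * β = algebraMap K₁ K₃ a)
    (hgen₃ : ∀ z : K₃, ∃ q : K₁[X], aeval β q = z)
    [Field N] [Algebra K N] [Algebra L N] [Algebra K₃ N] [Algebra K₁ N] [Algebra M₁ N] [IsScalarTower K L N]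
    [IsScalarTower K K₃ N] [IsScalarTower K₁ K₃ N] [IsScalarTower L M₁ N] [IsScalarTower K₁ M₁ N]
    (hgenN : Algebra.adjoin L (Set.range (algebraMap K₃ N)) = ⊤)
    (W₃ : ValuationSubring N) (hW₃ : EtRam.Dominates B ((algebraMap L N).comp (algebraMap B L)) W₃) :
    letI : Algebra (W₃.comap (algebraMap K₃ N)) W₃ := (EtRam.inclOfComap W₃ (algebraMap K₃ N)).toAlgebra
    EtRam.IsWeaklyUnramified (W₃.comap (algebraMap K₃ N)) W₃ ∧
      @Algebra.IsGeometricallyReduced (IsLocalRing.ResidueField (W₃.comap (algebraMap K₃ N))) (IsLocalRing.ResidueField W₃) _ _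
        (IsLocalRing.ResidueField.map (EtRam.inclOfComap W₃ (algebraMap K₃ N))).toAlgebra := by
  classical
  haveI : CharP M₁ p := charP_of_injective_algebraMap (algebraMap K₁ M₁).injective p
  set a' := algebraMap K₁ M₁ a with ha'
  haveI hF₁ : Fact (Irreducible (X ^ p - C a)) := ⟨X_pow_sub_C_irreducible_of_prime hp.out fun b hb =>
    hM (algebraMap K₁ M₁ b) (by rw [← map_pow, hb])⟩
  haveI hF : Fact (Irreducible (X ^ p - C a')) := ⟨X_pow_sub_C_irreducible_of_prime hp.out hM⟩
  set W₁ := W₃.comap (algebraMap M₁ N) with hW₁def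
  have hBN : ∀ b, algebraMap M₁ N (algebraMap B M₁ b) = algebraMap L N (algebraMap B L b) := fun b => by
    rw [IsScalarTower.algebraMap_apply B L M₁, ← IsScalarTower.algebraMap_apply L M₁ N]
  have hW₁ : EtRam.Dominates B (algebraMap B M₁) W₁ := ⟨fun b => by
    rw [hW₁def, ValuationSubring.mem_comap, hBN]; exact hW₃.1 b, fun b hb => by
    rw [hW₁def, valuation_comap_lt_one, hBN]; exact hW₃.2 b hb⟩
  have hintW₁ : ∀ y : M₁, IsIntegral B y → y ∈ W₁ := fun y hy => by
    obtain ⟨P, hm, h⟩ := hy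
    refine integral_mem W₁ ⟨P.map (RingHom.codRestrict (algebraMap B M₁) W₁ hW₁.1), hm.map _, ?_⟩
    rw [eval₂_map]
    exact h
  have hinjB : Function.Injective (algebraMap B M₁) := by
    rw [IsScalarTower.algebraMap_eq B L M₁]; exact (algebraMap L M₁).injective.comp (IsFractionRing.injective B L)
  have halgB : Algebra.IsAlgebraic B M₁ := (IsFractionRing.comap_isAlgebraic_iff (A := B) (K := L) (C := M₁)).mpr inferInstance
  set π₁ := algebraMap K K₁ (algebraMap A K π) with hπ₁
  set ρ := algebraMap B M₁ (algebraMap A B π) with hρ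
  have hπρ : algebraMap K₁ M₁ π₁ = ρ := by
    rw [hπ₁, hρ, ← IsScalarTower.algebraMap_apply K K₁ M₁, IsScalarTower.algebraMap_apply K L M₁,
      IsScalarTower.algebraMap_apply B L M₁, ← IsScalarTower.algebraMap_apply A B L, ← IsScalarTower.algebraMap_apply A K L]
  have hπ₁0 : π₁ ≠ 0 := (_root_.map_ne_zero _).mpr ((map_ne_zero_iff _ (IsFractionRing.injective A K)).mpr hπ0)
  have hρ0 : ρ ≠ 0 := hπρ ▸ (_root_.map_ne_zero _).mpr hπ₁0
  have hπB : algebraMap A B π ∈ maximalIdeal B := by
    rw [mem_maximalIdeal, mem_nonunits_iff, isUnit_map_iff]; exact hπ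
  -- the data
  let D : Data p M₁ :=
    { R := W₁, ρ := ρ, hρ := hW₁.1 _, hρnu := hW₁.2 _ hπB, hρ0 := hρ0
      harch := fun x => (harch x).imp fun k hk => hintW₁ _ hk
      a := a', ha := hintW₁ _ haB, d := ρ ^ s, hd := pow_mem (hW₁.1 _) _, hd0 := pow_ne_zero _ hρ0
      c := ρ ^ (s * (p + 2) + 2), hc := ⟨1, one_mem _, by rw [mul_one, ← pow_mul, ← pow_add]⟩ }
  set U₁ := W₁.comap (algebraMap K₁ M₁) with hU₁
  have hmemU : ∀ x, x ∈ U₁ ↔ algebraMap K₁ M₁ x ∈ W₁ := fun x => ValuationSubring.mem_comap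
  let D₁ : Data p K₁ :=
    { R := U₁, ρ := π₁, hρ := by rw [hmemU, hπρ]; exact D.hρ
      hρnu := by rw [hU₁, valuation_comap_lt_one, hπρ]; exact D.hρnu
      hρ0 := hπ₁0
      harch := fun x => (D.harch (algebraMap K₁ M₁ x)).imp fun k hk => by rw [hmemU, map_mul, map_pow, hπρ]; exact hk
      a := a, ha := (hmemU a).mpr D.ha
      d := π₁ ^ s, hd := by rw [hmemU, map_pow, hπρ]; exact D.hd
      hd0 := pow_ne_zero _ hπ₁0
      c := π₁ ^ (s * (p + 2) + 2), hc := ⟨1, one_mem _, by rw [mul_one, ← pow_mul, ← pow_add]⟩ }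
  let M₂ := AdjoinRoot (X ^ p - C a')
  let ι : AdjoinRoot (X ^ p - C a) →+* M₂ := rootMap p a
  haveI : Fact (Irreducible (poly₂ D)) := hF
  haveI : Fact (Irreducible (poly₂ D₁)) := hF₁
  set W₂ : ValuationSubring M₂ := W₁.comap (frobDown (p := p) a') with hW₂
  set V₂ := W₂.comap ι with hV₂
  set β' := algebraMap K₃ N β with hβ'
  have hcompK₁ : ∀ x : K₁, algebraMap M₁ N (algebraMap K₁ M₁ x) = algebraMap K₃ N (algebraMap K₁ K₃ x) := fun x => by
    rw [← IsScalarTower.algebraMap_apply K₁ M₁ N, ← IsScalarTower.algebraMap_apply K₁ K₃ N]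
  have H : Hyp D β' W₂ W₃ :=
    { hV₂ := comap_frobDown a' W₁
      hV₃ := rfl
      hbound := fun x hx i => coeff_bound hinjB halgB a' _ hbd W₁ hW₁ hx i
      hβ := by
        show β' ^ p - algebraMap M₁ N (ρ ^ (s * (p + 2) + 2)) * β' = algebraMap M₁ N a'
        rw [← hπρ, ha', hcompK₁, hβ', ← hβ, ← map_pow (algebraMap K₁ M₁), hcompK₁, map_sub, map_mul, map_pow (algebraMap K₃ N)]
      hgen := fun z => by
        have hz : z ∈ Algebra.adjoin L (Set.range (algebraMap K₃ N)) := hgenN ▸ Algebra.mem_top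
        suffices h : Algebra.adjoin L (Set.range (algebraMap K₃ N)) ≤ (Polynomial.aeval (R := M₁) β').range.restrictScalars L from h hz
        refine Algebra.adjoin_le ?_
        rintro _ ⟨k, rfl⟩
        obtain ⟨q, rfl⟩ := hgen₃ k
        refine ⟨q.map (algebraMap K₁ M₁), ?_⟩
        show aeval β' (q.map (algebraMap K₁ M₁)) = _
        rw [aeval_map_algebraMap, hβ', aeval_algebraMap_apply] }
  have hV₂comap : V₂.comap (algebraMap K₁ (AdjoinRoot (X ^ p - C a))) = U₁ := by
    ext x
    rw [hV₂, ValuationSubring.mem_comap, ValuationSubring.mem_comap, hmemU]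
    show rootMap p a _ ∈ W₂ ↔ _
    rw [rootMap_of]
    exact ValuationSubring.mem_comap.symm.trans (Iff.of_eq (congrArg (algebraMap K₁ M₁ x ∈ ·) (comap_frobDown a' W₁)))
  have H₁ : Hyp D₁ β V₂ (W₃.comap (algebraMap K₃ N)) :=
    { hV₂ := hV₂comap
      hV₃ := by
        ext x
        show _ ↔ x ∈ U₁
        rw [hmemU, ValuationSubring.mem_comap, ValuationSubring.mem_comap, hW₁def, ValuationSubring.mem_comap, hcompK₁]
      hbound := fun x hx i => by
        have h := coeff_bound hinjB halgB a' _ hbd W₁ hW₁ (x := ι x) hx i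
        show π₁ ^ s * (AdjoinRoot.modByMonicHom (monic_X_pow_sub_C a hp.out.ne_zero) x).coeff i ∈ U₁
        rw [hmemU, map_mul, map_pow, hπρ, ← coeff_map]
        exact (congrArg (fun Q : M₁[X] => ρ ^ s * Q.coeff i ∈ W₁) (modByMonicHom_rootMap (F := M₁) hp.out.ne_zero a x)).mp h
      hβ := hβ
      hgen := hgen₃ }
  have hnat : ∀ x, algebraMap K₃ N (phi D₁ β x) = phi D β' (ι x) := fun x => by
    show algebraMap K₃ N (aeval β (AdjoinRoot.modByMonicHom (monic_X_pow_sub_C a hp.out.ne_zero) x)) =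
      aeval β' (AdjoinRoot.modByMonicHom (monic_X_pow_sub_C a' hp.out.ne_zero) (rootMap p a x))
    refine Eq.trans ?_ (congrArg (fun Q : M₁[X] => aeval β' Q) (modByMonicHom_rootMap (F := M₁) hp.out.ne_zero a x)).symm
    show _ = aeval β' _
    rw [aeval_map_algebraMap, hβ', aeval_algebraMap_apply]
  -- the solution upstairs
  letI : Algebra K₂ M₂ := (ι.comp e.symm.toRingEquiv.toRingHom).toAlgebra
  have hιe : ∀ x : K₁, algebraMap K₂ M₂ (algebraMap K₁ K₂ x) = algebraMap M₁ M₂ (algebraMap K₁ M₁ x) := fun x => by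
    show rootMap p a (e.symm (algebraMap K₁ K₂ x)) = _
    rw [AlgEquiv.commutes, rootMap_of]
  haveI : IsScalarTower K L M₂ := IsScalarTower.of_algebraMap_eq fun x => by
    rw [IsScalarTower.algebraMap_apply K M₁ M₂, IsScalarTower.algebraMap_apply L M₁ M₂, IsScalarTower.algebraMap_apply K L M₁]
  haveI : IsScalarTower K K₂ M₂ := IsScalarTower.of_algebraMap_eq fun x => by
    rw [IsScalarTower.algebraMap_apply K K₁ K₂, hιe]
    rw [← IsScalarTower.algebraMap_apply K K₁ M₁, ← IsScalarTower.algebraMap_apply K M₁ M₂]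
  have hgen₂ : Algebra.adjoin L (Set.range (algebraMap K₂ M₂)) = ⊤ := by
    refine Algebra.eq_top_iff.mpr fun z => ?_
    set S := Algebra.adjoin L (Set.range (algebraMap K₂ M₂))
    have hMS : ∀ m : M₁, algebraMap M₁ M₂ m ∈ S := fun m => by
      have hm : m ∈ Algebra.adjoin L (Set.range (algebraMap K₁ M₁)) := hgenM ▸ Algebra.mem_top
      suffices h : Algebra.adjoin L (Set.range (algebraMap K₁ M₁)) ≤ S.comap (IsScalarTower.toAlgHom L M₁ M₂) from h hm
      refine Algebra.adjoin_le ?_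
      rintro _ ⟨k, rfl⟩
      exact Algebra.subset_adjoin ⟨algebraMap K₁ K₂ k, hιe k⟩
    have hroot : AdjoinRoot.root (X ^ p - C a') ∈ S := Algebra.subset_adjoin ⟨e (AdjoinRoot.root _), by
      show rootMap p a (e.symm (e _)) = _
      rw [AlgEquiv.symm_apply_apply, ← AdjoinRoot.mk_X, rootMap_mk, Polynomial.map_X, AdjoinRoot.mk_X]⟩
    obtain ⟨q, rfl⟩ := AdjoinRoot.mk_surjective z
    rw [← AdjoinRoot.aeval_eq, aeval_eq_sum_range]
    exact sum_mem fun i _ => by rw [Algebra.smul_def]; exact mul_mem (hMS _) (pow_mem hroot _)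
  have hW₂dom : EtRam.Dominates B ((algebraMap L M₂).comp (algebraMap B L)) W₂ := ⟨fun b => by
    show algebraMap L M₂ (algebraMap B L b) ∈ W₂
    rw [IsScalarTower.algebraMap_apply L M₁ M₂, ← IsScalarTower.algebraMap_apply B L M₁]
    exact H.mem₂ (hW₁.1 b), fun b hb => by
    show W₂.valuation (algebraMap L M₂ (algebraMap B L b)) < 1
    rw [IsScalarTower.algebraMap_apply L M₁ M₂, ← IsScalarTower.algebraMap_apply B L M₁, ← valuation_comap_lt_one]
    have h := hW₁.2 b hb
    rw [← comap_frobDown a' W₁] at h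
    exact h⟩
  obtain ⟨hwu, hgr⟩ := hsol M₂ hgen₂ W₂ hW₂dom
  -- V₂ against W₂ ∩ K₂
  let V' := W₂.comap (algebraMap K₂ M₂)
  let eV : V' ≃+* V₂ :=
    { toFun := fun x => ⟨e.symm (x : K₂), x.2⟩
      invFun := fun y => ⟨e (y : AdjoinRoot (X ^ p - C a)), show ι (e.symm (e _)) ∈ W₂ by rw [AlgEquiv.symm_apply_apply]; exact y.2⟩
      left_inv := fun x => Subtype.ext (e.apply_symm_apply _)
      right_inv := fun y => Subtype.ext (e.symm_apply_apply _)
      map_mul' := fun x y => Subtype.ext (map_mul e.symm (x : K₂) y)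
      map_add' := fun x y => Subtype.ext (map_add e.symm (x : K₂) y) }
  letI : Algebra A K₂ := ((algebraMap K K₂).comp (algebraMap A K)).toAlgebra
  haveI : IsScalarTower A K K₂ := IsScalarTower.of_algebraMap_eq fun _ => rfl
  have hAK₂ : ∀ t : A, algebraMap K₂ M₂ (algebraMap A K₂ t) = algebraMap M₁ M₂ (algebraMap B M₁ (algebraMap A B t)) := fun t => by
    show algebraMap K₂ M₂ (algebraMap K K₂ (algebraMap A K t)) = _
    rw [IsScalarTower.algebraMap_apply K K₁ K₂, hιe, ← IsScalarTower.algebraMap_apply K K₁ M₁, IsScalarTower.algebraMap_apply K L M₁,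
      IsScalarTower.algebraMap_apply B L M₁, ← IsScalarTower.algebraMap_apply A B L, ← IsScalarTower.algebraMap_apply A K L]
  letI : Algebra A V' := (RingHom.codRestrict (algebraMap A K₂) V' fun t => by
    show algebraMap K₂ M₂ (algebraMap A K₂ t) ∈ W₂
    rw [hAK₂]; exact H.mem₂ (hW₁.1 _)).toAlgebra
  haveI : IsLocalHom (algebraMap A V') := ⟨fun t ht => by
    by_contra hn
    have h1 : algebraMap A B t ∈ maximalIdeal B := by rw [mem_maximalIdeal, mem_nonunits_iff, isUnit_map_iff]; exact hn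
    have h2 := hW₁.2 _ h1
    rw [← comap_frobDown a' W₁, valuation_comap_lt_one] at h2
    have h3 : W₂.valuation (algebraMap K₂ M₂ (algebraMap A K₂ t)) < 1 := by rw [hAK₂]; exact h2
    rw [← valuation_comap_lt_one] at h3
    exact h3.ne ((ValuationSubring.valuation_eq_one_iff _ _).mp ht)⟩
  haveI := EtRamBC.isDiscreteValuationRing A K V' (fun _ => rfl)
  obtain ⟨t', ht'⟩ := IsDiscreteValuationRing.exists_irreducible V'
  have hmV' := ht'.maximalIdeal_eq
  have hmW₂ : maximalIdeal W₂ = Ideal.span {EtRam.inclOfComap W₂ (algebraMap K₂ M₂) t'} := by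
    rw [← hwu, hmV', Ideal.map_span, Set.image_singleton]
    rfl
  have hmV₂ : maximalIdeal V₂ = Ideal.span {eV t'} := by
    have : (maximalIdeal V').map eV.toRingHom = maximalIdeal V₂ :=
      IsLocalRing.eq_maximalIdeal (Ideal.map_isMaximal_of_equiv eV)
    rw [← this, hmV', Ideal.map_span, Set.image_singleton]
    rfl
  have h₁ := H₁.maximalIdeal_eq (eV t') hmV₂
  have h₂ := H.maximalIdeal_eq _ hmW₂
  refine ⟨?_, ?_⟩
  · letI : Algebra (W₃.comap (algebraMap K₃ N)) W₃ := (EtRam.inclOfComap W₃ (algebraMap K₃ N)).toAlgebra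
    show (maximalIdeal (W₃.comap (algebraMap K₃ N))).map (algebraMap (W₃.comap (algebraMap K₃ N)) W₃) = maximalIdeal W₃
    rw [h₁, h₂, Ideal.map_span, Set.image_singleton]
    congr 2
    exact Subtype.ext (hnat _)
  · refine geomRed_transfer (ResidueField.map (EtRam.inclOfComap W₂ (algebraMap K₂ M₂))) _
      ((ResidueField.mapEquiv eV).trans H₁.resEquiv) H.resEquiv ?_ hgr
    intro x
    obtain ⟨x, rfl⟩ := residue_surjective x
    show ResidueField.map (EtRam.inclOfComap W₃ (algebraMap K₃ N)) (H₁.resEquiv (residue V₂ (eV x))) =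
      H.resEquiv (residue W₂ (EtRam.inclOfComap W₂ (algebraMap K₂ M₂) x))
    refine (congrArg _ (H₁.resEquiv_residue (eV x))).trans (Eq.trans ?_ (H.resEquiv_residue _).symm)
    exact congrArg (residue W₃) (Subtype.ext (hnat _))

end EtRamDeform
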